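import Cfsg.Agent.Lib.Spor.HSType.Cert.YA2.Part0

/-!
A conjugate in the two-local subgroup, number 2: the assembled checks.
-/

set_option autoImplicit false

namespace CfsgLib.Spor.HSType.Cert.YA2

open CfsgLib.Spor.TC

theorem steps_ok : cert.SStepsOK 0 699 :=
  steps0

set_option maxRecDepth 100000 in
theorem trace : cert.sTraceOK 699 target 0x5760003500033000310002f0002d0002b00029000270002500023000210001f0001d0001b00019000170001500013000110000f0000d0000b0000900007000050000300001 = true := by decide +kernel

end CfsgLib.Spor.HSType.Cert.YA2
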